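import Cfsg.Agent.Lib.TwoFusion.CyclicMaxRealize
import Cfsg.Agent.Lib.TwoFusion.WreathedRealize
import Cfsg.Agent.Lib.FusionSys.RealizedSimple
import Cfsg.Agent.Lib.FusionSys.ComponentCore
import Cfsg.Agent.Lib.FusionSys.CenterFactor
import Cfsg.Agent.Lib.FusionSys.Inner
import Cfsg.Agent.S5248

/-!
# Simple fusion systems of two-rank two

A simple system is realized by a group without characters of order two, so both classes of
essential candidates are active and the system is that of the projective special linear models.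
-/

set_option autoImplicit false
set_option linter.style.haveILetI false

namespace Cfsg.Lib.TwoFusion.SimpleRankTwo

open Cfsg Cfsg.FusionSystem Cfsg.Lib.FusionSys Cfsg.Lib.FusionSys.MetacyclicType Cfsg.Lib.TwoFusion
  Cfsg.Lib.TwoGroup Matrix

universe u v

variable {Ω : Type u} [Group Ω] {S : Subgroup Ω} [Finite S] {F : FusionSystem S}

/-- The centre of a simple system on more than two points is trivial. -/
theorem center_eq_bot (hS : IsPGroup 2 S) (hs : F.IsSimple 2) (h4 : 4 ≤ Nat.card S) :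
    F.center = ⊥ := by
  haveI : Fact (Nat.Prime 2) := ⟨Nat.prime_two⟩
  by_contra hne
  have hZS : F.center ≤ S := (isCentral_center F).1
  haveI := finite_of_le hZS
  obtain ⟨k, hk⟩ := IsPGroup.iff_card.1 (hS.to_le hZS)
  have hk0 : k ≠ 0 := by
    rintro rfl
    exact hne (Subgroup.eq_bot_of_card_eq _ (by rwa [pow_zero] at hk))
  obtain ⟨x, hx⟩ := exists_prime_orderOf_dvd_card' (G := F.center) 2 (hk ▸ dvd_pow_self 2 hk0)
  set T := Subgroup.zpowers (x : Ω) with hT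
  have hTZ : T ≤ F.center := Subgroup.zpowers_le.2 x.2
  have hfix : ∀ (P : Subgroup Ω) (φ : P →* Ω), φ ∈ F.Hom P → ∀ y : P, (y : Ω) ∈ T → φ y = y :=
    fun P φ hφ y hy => center_fixed F (hTZ hy) hφ rfl
  haveI : Finite T := finite_of_le (hTZ.trans hZS)
  have hN : (innerFusionSystem T).IsNormalIn F 2 :=
    isNormalIn_inner hS hs.1
      ⟨hTZ.trans hZS, fun R hR φ hφ y => by rw [hfix R φ hφ y (hR y.2)]; exact hR y.2⟩
      fun P hP φ hφ => ⟨1, Subgroup.one_mem _, fun y => by rw [hfix P φ hφ y (hP y.2)]; rfl⟩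
  have hcT : Nat.card T = 2 := by rw [Nat.card_zpowers, Subgroup.orderOf_coe, hx]
  rcases hs.2.2 T _ hN with h | ⟨h, -⟩
  · rw [h, Subgroup.card_bot] at hcT
    omega
  · rw [h] at hcT
    omega

/-- In a simple system `S` is not normal. -/
theorem not_isNormal (hS : IsPGroup 2 S) (hs : F.IsSimple 2) (h4 : 4 ≤ Nat.card S) :
    ¬ F.IsNormal S := by
  haveI : Fact (Nat.Prime 2) := ⟨Nat.prime_two⟩
  intro hN
  haveI : Nontrivial S := (Subgroup.nontrivial_iff_ne_bot S).2 hs.2.1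
  rcases hs.2.2 S _ (isNormalIn_inner_of_isNormal hS hs.1 hN) with h | ⟨-, hhom⟩
  · exact hs.2.1 h
  haveI := hS.center_nontrivial
  obtain ⟨z, hz1⟩ := exists_ne (1 : Subgroup.center S)
  refine hz1 (Subtype.ext (Subtype.ext ?_))
  have hz : ((z : S) : Ω) ∈ F.center := by
    refine (mem_center_iff' hS hs.1).2 ⟨(z : S).2, fun R φ hφ hx => ?_⟩
    rw [← hhom R] at hφ
    obtain ⟨-, g, hg, hge⟩ := hφ
    rw [hge]
    have h := congrArg Subtype.val (Subgroup.mem_center_iff.1 z.2 ⟨g, hg⟩)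
    show g * ((z : S) : Ω) * g⁻¹ = _
    rw [show g * ((z : S) : Ω) = ((z : S) : Ω) * g from h, mul_inv_cancel_right]
  rwa [center_eq_bot hS hs h4, Subgroup.mem_bot] at hz

omit [Finite S] in
/-- A realized system is the system of its model. -/
theorem eq_ofModel {G : Type v} [Group G] [Finite G] {ι : S →* G} (hr : F.IsRealizedBy ι) :
    F = ofModel ι hr.1 := by
  refine fusionSystem_le_antisymm (fun P φ hφ => ?_) (fun P φ hφ => ?_)
  · exact ((ofModel_realizedBy ι hr.1).2 P (F.le_of_mem hφ).1 φ (F.le_of_mem hφ).2).2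
      ((hr.2 P (F.le_of_mem hφ).1 φ (F.le_of_mem hφ).2).1 hφ)
  · have h := (ofModel ι hr.1).le_of_mem hφ
    exact (hr.2 P h.1 φ h.2).2 (((ofModel_realizedBy ι hr.1).2 P h.1 φ h.2).1 hφ)

/-- A group realizing a simple system has no character of order two. -/
theorem noChar_of_simple (hs : F.IsSimple 2) (h4 : 4 ≤ Nat.card S) {G : Type v} [Group G] [Finite G]
    {ι : S →* G} (hr : F.IsRealizedBy ι) (hT : ∃ T : Sylow 2 G, (T : Subgroup G) = ι.range) :
    NoChar G := by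
  haveI : Fact (Nat.Prime 2) := ⟨Nat.prime_two⟩
  intro τ
  by_contra hτ
  have hne := comp_ne_one hT hτ
  obtain ⟨T, hT⟩ := hT
  rcases hs.2.2 _ _ (isNormalIn_normalSystem hr T hT τ.ker) with h | ⟨h, -⟩
  · have hinj : Function.Injective (τ.comp ι) := by
      refine (MonoidHom.ker_eq_bot_iff _).1 ((Subgroup.eq_bot_iff_forall _).2 fun x hx => ?_)
      exact Subtype.ext ((Subgroup.eq_bot_iff_forall _).1 h x ((mem_normalPart x.2).2 hx))
    have := Nat.card_le_card_of_injective _ hinj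
    simp at this
    omega
  · exact hne (MonoidHom.ext fun x => (mem_normalPart x.2).1 (h.ge x.2))

/-- Equality of a system with a model from their odd automorphisms. -/
theorem realizedBy_of_odd_aut (hS : IsPGroup 2 S) (hF : F.IsSaturated 2) {G : Type v} [Group G]
    [Finite G] (ι : S →* G) (hι : Function.Injective ι)
    (hT : ∃ T : Sylow 2 G, (T : Subgroup G) = ι.range)
    (hFG : ∀ P : Subgroup Ω, (P = S ∨ F.IsEssential 2 P) → ∀ α ∈ F.autGroup P, Odd (orderOf α) →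
      α ≠ 1 → α ∈ (ofModel ι hι).autGroup P)
    (hGF : ∀ P : Subgroup Ω, (P = S ∨ (ofModel ι hι).IsEssential 2 P) →
      ∀ α ∈ (ofModel ι hι).autGroup P, Odd (orderOf α) → α ≠ 1 → α ∈ F.autGroup P) :
    F.IsRealizedBy ι := by
  haveI : Fact (Nat.Prime 2) := ⟨Nat.prime_two⟩
  rw [show F = ofModel ι hι from fusionSystem_le_antisymm (le_of_odd_aut hS hF _ hFG)
    (le_of_odd_aut hS (isSaturated_of_realized (ofModel_realizedBy ι hι) hT) _ hGF)]
  exact ofModel_realizedBy ι hι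

/-- A simple system of cyclic-maximal shape is that of any model without characters. -/
theorem realized_cm (d : CM S) (hs : F.IsSimple 2) (h4 : 4 ≤ Nat.card S) (hreal : F.IsRealizable 2)
    {G : Type} [Group G] [Finite G] (T : Sylow 2 G) (hG : NoChar G) (d' : CM (T : Subgroup G))
    (hn : d'.n = d.n) (hr : d'.r = d.r) (hs' : d'.s = d.s) :
    ∃ ι : S →* G, F.IsRealizedBy ι ∧ ∃ R : Sylow 2 G, (R : Subgroup G) = ι.range := by
  obtain ⟨H, _, _, j, hj, hjT⟩ := hreal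
  obtain ⟨h0, h1⟩ := d.both_of_noChar (hι := hj.1) hjT (noChar_of_simple hs h4 hj hjT)
  rw [← eq_ofModel hj] at h0 h1
  obtain ⟨ι, hι, hT, -⟩ := d.exists_iota T d' hn hr hs'
  obtain ⟨g0, g1⟩ := d.both_of_noChar (hι := hι) ⟨T, hT⟩ hG
  exact ⟨ι, realizedBy_of_odd_aut d.isPGroup_S hs.1 ι hι ⟨T, hT⟩
    (d.le_of_pattern hs.1 (fun _ => g0) (fun _ => g1))
    (d.le_of_pattern (d.model_saturated ⟨T, hT⟩) (fun _ => h0) (fun _ => h1)), T, hT⟩

/-- A simple system of wreathed shape is that of any model without characters. -/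
theorem realized_w {n : ℕ} (d : W S n) (hs : F.IsSimple 2) (h4 : 4 ≤ Nat.card S)
    (hreal : F.IsRealizable 2) {G : Type} [Group G] [Finite G] (T : Sylow 2 G) (hG : NoChar G)
    (d' : W (T : Subgroup G) n) :
    ∃ ι : S →* G, F.IsRealizedBy ι ∧ ∃ R : Sylow 2 G, (R : Subgroup G) = ι.range := by
  obtain ⟨H, _, _, j, hj, hjT⟩ := hreal
  have hboth : ∀ e : W S n, Active F (AS e) ∧ Active F (WS e) := fun e => by
    have h := both_of_noChar (hι := hj.1) hjT e (noChar_of_simple hs h4 hj hjT)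
    rwa [← eq_ofModel hj] at h
  obtain ⟨d₁, t, ht, hto, ht1, hstd⟩ := exists_std d hs.1 (hboth d).1
  obtain ⟨ι₀, hι₀, hT, -⟩ := exists_iota_w d₁ T d'
  obtain ⟨ι, hι, hr, htE⟩ :=
    exists_adjust ⟨T, hT⟩ d₁ hstd (both_of_noChar (hι := hι₀) ⟨T, hT⟩ d₁ hG).1
  have hT' : (T : Subgroup G) = ι.range := hT.trans hr.symm
  exact ⟨ι, realizedBy_of_odd_aut (isPGroup_host d₁) hs.1 ι hι ⟨T, hT'⟩
    (wreathed_le d₁ hs.1 (fun _ => ⟨t, ht, htE, hto, ht1⟩)
      fun _ => (both_of_noChar (hι := hι) ⟨T, hT'⟩ d₁ hG).2)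
    (wreathed_le d₁ (wmodel_saturated ⟨T, hT'⟩) (fun _ => ⟨t, htE, ht, hto, ht1⟩)
      fun _ => (hboth d₁).2), T, hT'⟩

/-- `L_2(q)` with dihedral Sylow two-subgroups of order at least eight. -/
theorem exists_psl_two {n : ℕ} (hn : 2 ≤ n) :
    ∃ (q : ℕ) (_ : Fact q.Prime), Odd q ∧ q % 8 = 1 ∧
      ∃ P : Sylow 2 (ProjectiveSpecialLinearGroup (Fin 2) (ZMod q)),
        NoChar (ProjectiveSpecialLinearGroup (Fin 2) (ZMod q)) ∧
        Nonempty ((P : Subgroup (ProjectiveSpecialLinearGroup (Fin 2) (ZMod q))) ≃*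
          DihedralGroup (2 ^ n)) := by
  classical
  haveI : Fact (Nat.Prime 2) := ⟨Nat.prime_two⟩
  obtain ⟨q, hq, h5, hodd, t, ht⟩ := exists_prime_sub_one (a := n + 1) (by omega)
  haveI : Fact q.Prime := ⟨hq⟩
  have hF : Odd (Fintype.card (ZMod q)) := by rwa [ZMod.card]
  have hc := Cfsg.Lib.Linear.Two.card_PSL_two (F := ZMod q)
  rw [ZMod.card] at hc
  have hg : Nat.gcd 2 (q - 1) = 2 :=
    Nat.gcd_eq_left ⟨2 ^ n * (2 * t + 1), by rw [ht, pow_succ]; ring_nf; omega⟩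
  have he : q ^ 2 - 1 = 2 ^ (n + 2) * ((2 * t + 1) * (2 ^ n * (2 * t + 1) + 1)) := by
    rw [show q ^ 2 = 2 ^ (n + 2) * ((2 * t + 1) * (2 ^ n * (2 * t + 1) + 1)) + 1 by rw [ht]; ring]
    omega
  rw [hg, he] at hc
  obtain ⟨P⟩ : Nonempty (Sylow 2 (ProjectiveSpecialLinearGroup (Fin 2) (ZMod q))) := inferInstance
  obtain ⟨m, -, ⟨eP⟩⟩ := Cfsg.Lib.FusionSys.Lin.sylow_psl_two_equiv_dihedral hF (by
    rw [ZMod.card, he]
    exact Dvd.dvd.mul_right (pow_dvd_pow 2 (show 4 ≤ n + 2 by omega)) _) P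
  have hP := sylow_two_card P (a := n + 1) (m := q * ((2 * t + 1) * (2 ^ n * (2 * t + 1) + 1)))
    (mul_left_cancel₀ (two_ne_zero' ℕ) (by rw [hc]; ring))
    (hodd.mul ((odd_two_mul_add_one t).mul
      ((Even.mul_right (Nat.even_pow.mpr ⟨even_two, by omega⟩) _).add_one)))
  rw [Nat.card_congr eP.toEquiv, DihedralGroup.nat_card, pow_succ'] at hP
  obtain rfl : m = 2 ^ n := by omega
  have h8 : q % 8 = 1 := by
    obtain ⟨w, hw⟩ : 8 ∣ 2 ^ (n + 1) * (2 * t + 1) :=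
      Dvd.dvd.mul_right (show 2 ^ 3 ∣ 2 ^ (n + 1) from pow_dvd_pow 2 (by omega)) _
    omega
  exact ⟨q, ⟨hq⟩, hodd, h8, P,
    NoChar.of_surjective _ (QuotientGroup.mk'_surjective _)
      (noChar_of_perfect (Cfsg.Lib.Linear.commutator_SL_eq_top' (Or.inr (by rw [ZMod.card]; omega)))),
    ⟨eP⟩⟩

/-- `L_3(q)` with quasi-dihedral Sylow two-subgroups. -/
theorem exists_psl_three_sd {n : ℕ} (hn : 3 ≤ n) :
    ∃ (q : ℕ) (_ : Fact q.Prime), Odd q ∧
      ∃ P : Sylow 2 (ProjectiveSpecialLinearGroup (Fin 3) (ZMod q)),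
        NoChar (ProjectiveSpecialLinearGroup (Fin 3) (ZMod q)) ∧
        ∃ d : CM (P : Subgroup (ProjectiveSpecialLinearGroup (Fin 3) (ZMod q))),
          d.n = n ∧ d.r = 2 ^ (n - 1) - 1 ∧ d.s = 0 := by
  classical
  haveI : Fact (Nat.Prime 2) := ⟨Nat.prime_two⟩
  obtain ⟨a, rfl⟩ : ∃ a, n = a + 3 := ⟨n - 3, by omega⟩
  obtain ⟨q, hq, h5, t, ht⟩ := exists_prime_add_one (a := a + 2) (by omega)
  haveI : Fact q.Prime := ⟨hq⟩
  have hodd : Odd q := hq.odd_of_ne_two (by omega)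
  have hF : Odd (Fintype.card (ZMod q)) := by rwa [ZMod.card]
  have h4 : Fintype.card (ZMod q) % 4 = 3 := by
    rw [ZMod.card]
    have : 2 ^ (a + 2) * (2 * t + 1) = 4 * (2 ^ a * (2 * t + 1)) := by ring
    omega
  obtain ⟨P⟩ : Nonempty (Sylow 2 (GL (Fin 2) (ZMod q))) := inferInstance
  have hQ := Cfsg.Lib.FusionSys.Lin.isQuasiDihedral_sylow h4 P
  set x := 2 ^ (a + 1) * (2 * t + 1) - 1 with hx
  have hxo : Odd x := Nat.Even.sub_odd (Nat.one_le_iff_ne_zero.mpr (by positivity))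
    (Even.mul_right (Nat.even_pow.mpr ⟨even_two, by omega⟩) _) odd_one
  have hP := sylow_two_card P (a := a + 4) (m := x * x * (2 * t + 1) * q) (by
    rw [Cfsg.Lib.FusionSys.Lin.card_GL_two, ZMod.card, ht,
      show q - 1 = 2 * x by
        have : 2 ^ (a + 2) * (2 * t + 1) = 2 * (2 ^ (a + 1) * (2 * t + 1)) := by ring
        omega]
    ring) (((hxo.mul hxo).mul (odd_two_mul_add_one t)).mul hodd)
  obtain ⟨c⟩ := Cfsg.Lib.TwoGroup.sd_of_card hQ (n := a + 3) hP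
  obtain ⟨R⟩ : Nonempty (Sylow 2 (ProjectiveSpecialLinearGroup (Fin 3) (ZMod q))) := inferInstance
  obtain ⟨e⟩ := Cfsg.Lib.FusionSys.Lin.sylow_psl_three_equiv hF R P
  exact ⟨q, ⟨hq⟩, hodd, R, noChar_psl_three _, (CM.ofSD c).map e, rfl, rfl, rfl⟩

/-- `L_3(q)` with wreathed Sylow two-subgroups. -/
theorem exists_psl_three_w {n : ℕ} (hn : 2 ≤ n) :
    ∃ (q : ℕ) (_ : Fact q.Prime), Odd q ∧
      ∃ P : Sylow 2 (ProjectiveSpecialLinearGroup (Fin 3) (ZMod q)),
        NoChar (ProjectiveSpecialLinearGroup (Fin 3) (ZMod q)) ∧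
        Nonempty (W (P : Subgroup (ProjectiveSpecialLinearGroup (Fin 3) (ZMod q))) n) := by
  classical
  haveI : Fact (Nat.Prime 2) := ⟨Nat.prime_two⟩
  obtain ⟨q, hq, h5, hodd, t, ht⟩ := exists_prime_sub_one (a := n) (by omega)
  haveI : Fact q.Prime := ⟨hq⟩
  have hF : Odd (Fintype.card (ZMod q)) := by rwa [ZMod.card]
  obtain ⟨j, rfl⟩ : ∃ j, n = j + 2 := ⟨n - 2, by omega⟩
  have h4 : Fintype.card (ZMod q) % 4 = 1 := by
    rw [ZMod.card]
    have : 2 ^ (j + 2) * (2 * t + 1) = 4 * (2 ^ j * (2 * t + 1)) := by ring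
    omega
  obtain ⟨P⟩ : Nonempty (Sylow 2 (GL (Fin 2) (ZMod q))) := inferInstance
  have hW := Cfsg.Lib.FusionSys.Lin.isWreathed_sylow h4 P
  have hP := sylow_two_card P (a := 2 * (j + 2) + 1)
    (m := q * (2 * t + 1) * (2 * t + 1) * (2 ^ (j + 1) * (2 * t + 1) + 1)) (by
    rw [Cfsg.Lib.FusionSys.Lin.card_GL_two, ZMod.card, ht, Nat.add_sub_cancel]
    ring) ((((hodd.mul (odd_two_mul_add_one t)).mul (odd_two_mul_add_one t))).mul
      ((Even.mul_right (Nat.even_pow.mpr ⟨even_two, by omega⟩) _).add_one))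
  obtain ⟨d⟩ := Cfsg.Lib.TwoGroup.w_of_card hW hP
  obtain ⟨R⟩ : Nonempty (Sylow 2 (ProjectiveSpecialLinearGroup (Fin 3) (ZMod q))) := inferInstance
  obtain ⟨e⟩ := Cfsg.Lib.FusionSys.Lin.sylow_psl_three_equiv hF R P
  exact ⟨q, ⟨hq⟩, hodd, R, noChar_psl_three _, ⟨W.transport d e⟩⟩

end Cfsg.Lib.TwoFusion.SimpleRankTwo
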